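import Groth.Agent.PicLift58.Main

/-!
# Thickening points of a closed subscheme meeting every connected closed set connectedly
-/

universe u

open CategoryTheory AlgebraicGeometry TopologicalSpace Opposite Topology

namespace Groth.Agent.PicLift58

theorem canThicken_of_connected {X X₀ : Scheme.{u}} [NoetherianSpace X] (i : X₀ ⟶ X)
    [IsClosedImmersion i]
    (hb : ∀ Y : Set X, IsClosed Y → Y.Nonempty → _root_.IsConnected Y →
      (Y ∩ Set.range i.base).Nonempty ∧ _root_.IsConnected (Y ∩ Set.range i.base)) :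
    CanThicken i := by
  intro U _ g s hs hsU hgs
  let W : Set X := closure ((U : Set X) ∩ (X.basicOpen g : Set X)ᶜ)
  have hWU : ∀ y ∈ W, y ∈ U → y ∉ X.basicOpen g := fun y hy hyU hg => by
    obtain ⟨z, hz, hz'⟩ := mem_closure_iff.1 hy _ (X.basicOpen g).isOpen hg
    exact hz'.2 hz
  have hsg : i s ∉ X.basicOpen g := fun h => (hgs s hsU).1 h rfl
  have hsW : i s ∈ W := subset_closure ⟨hsU, hsg⟩
  let C := connectedComponentIn W (i s)
  have hsC : i s ∈ C := mem_connectedComponentIn hsW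
  obtain ⟨S, hS, hcl, hirr, hWS⟩ :=
    NoetherianSpace.exists_finite_set_isClosed_irreducible (isClosed_closure : IsClosed W)
  have hdich : ∀ t ∈ S, (t ∩ C).Nonempty → t ⊆ C := by
    rintro t ht ⟨z, hzt, hzC⟩
    have h := (hirr t ht).isConnected.isPreconnected.subset_connectedComponentIn hzt
      (fun w hw => hWS.ge ⟨t, ht, hw⟩ : t ⊆ W)
    rwa [← connectedComponentIn_eq hzC] at h
  have hCW : C ⊆ W := connectedComponentIn_subset _ _
  have hC : IsClosed C := by
    rw [show C = ⋃₀ {t ∈ S | (t ∩ C).Nonempty} from subset_antisymm (fun z hz => by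
      obtain ⟨t, ht, hzt⟩ := hWS.le (hCW hz)
      exact ⟨t, ⟨ht, z, hzt, hz⟩, hzt⟩) (Set.sUnion_subset fun t ht => hdich t ht.1 ht.2)]
    rw [Set.sUnion_eq_biUnion]
    exact (hS.subset fun t ht => ht.1).isClosed_biUnion fun t ht => hcl t ht.1
  have hrest : IsClosed (W \ C) := by
    rw [show W \ C = ⋃₀ {t ∈ S | ¬ (t ∩ C).Nonempty} from subset_antisymm (fun z hz => by
      obtain ⟨t, ht, hzt⟩ := hWS.le hz.1
      exact ⟨t, ⟨ht, fun h => hz.2 (hdich t ht h hzt)⟩, hzt⟩)
      (Set.sUnion_subset fun t ht z hz =>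
        ⟨hWS.ge ⟨t, ht.1, hz⟩, fun h => ht.2 ⟨z, hz, h⟩⟩)]
    rw [Set.sUnion_eq_biUnion]
    exact (hS.subset fun t ht => ht.1).isClosed_biUnion fun t ht => hcl t ht.1
  -- `C` meets the closed subscheme in `i s` only
  have hconn := (hb C hC ⟨_, hsC⟩ (isConnected_connectedComponentIn_iff.2 hsW)).2
  have hsingle : ∀ x, i x ∈ C → x = s := by
    intro x hx
    by_contra hne
    have hcs : IsClosed ({i s} : Set X) := by
      simpa using i.isClosedEmbedding.isClosedMap _ hs
    obtain ⟨z, ⟨hzC, x', rfl⟩, hz1, hz2⟩ := hconn.isPreconnected (U : Set X) ({i s}ᶜ)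
      U.isOpen hcs.isOpen_compl
      (fun z _ => (em (z = i s)).elim (fun h => Or.inl (by rw [h]; exact hsU)) fun h => Or.inr h)
      ⟨i s, ⟨hsC, s, rfl⟩, hsU⟩
      ⟨i x, ⟨hx, x, rfl⟩, fun h => hne (i.isClosedEmbedding.injective h)⟩
    by_cases hx's : x' = s
    · exact hz2 (congrArg _ hx's)
    · exact hWU _ (hCW hzC) hz1 ((hgs x' hz1).2 hx's)
  have hkey : ∀ T : Set X, IsClosed T → T ⊆ C → T.Nonempty → i s ∈ T := by
    rintro T hT hTC ⟨y, hy⟩
    have hsub : closure ({y} : Set X) ⊆ T := closure_minimal (Set.singleton_subset_iff.2 hy) hT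
    obtain ⟨⟨z, hz, x, rfl⟩, -⟩ := hb (closure ({y} : Set X)) isClosed_closure ⟨y, subset_closure rfl⟩
      isIrreducible_singleton.closure.isConnected
    have := hsingle x (hTC (hsub hz))
    subst this
    exact hsub hz
  have hCU : C ⊆ U := fun y hy => by_contra fun hyU =>
    (hkey _ (hC.inter U.isOpen.isClosed_compl) Set.inter_subset_left ⟨y, hy, hyU⟩).2 hsU
  refine ⟨C, ⟨(U : Set X) \ (W \ C), U.isOpen.sdiff hrest⟩, hC, fun y hy => hy.1,
    fun y hy => ⟨hCU hy, fun h => h.2 hy⟩, fun y hy hyC => ?_, hsC, hkey⟩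
  by_contra hg
  exact hy.2 ⟨subset_closure ⟨hy.1, hg⟩, hyC⟩

end Groth.Agent.PicLift58
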